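import Cfsg.Agent.Lib.Metacyclic.Comm

/-!
# Metacyclic `p`-groups, `p` odd: class sizes and the index of the centre
-/

set_option autoImplicit false

namespace Cfsg.Agent.Lib.Metacyclic.Class

open Cfsg.Agent.Lib.Metacyclic.Arith Cfsg.Agent.Lib.Metacyclic.Basic
open Cfsg.Agent.Lib.Metacyclic.Comm
open Subgroup
open scoped commutatorElement

variable {G : Type*} [Group G] [Finite G] {p : ℕ} [hp : Fact p.Prime]

/-- Subgroups of `G'` are totally ordered. -/
theorem zpowers_le_total (hG : IsPGroup p G) {a b : G} (h : Setup a b) {x y : G}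
    (hx : x ∈ commutator G) (hy : y ∈ commutator G) :
    x ∈ zpowers y ∨ y ∈ zpowers x := by
  rw [commutator_eq_zpowers h] at hx hy
  obtain ⟨i, rfl⟩ := exists_natPow_of_mem_zpowers hx
  obtain ⟨k, rfl⟩ := exists_natPow_of_mem_zpowers hy
  obtain ⟨r, hr⟩ := orderOf_eq_prime_pow hG (⁅b, a⁆ ^ i)
  obtain ⟨t, ht⟩ := orderOf_eq_prime_pow hG (⁅b, a⁆ ^ k)
  rcases le_total r t with hrt | hrt
  · left
    apply mem_zpowers_of_orderOf_dvd
    rw [hr, ht]
    exact pow_dvd_pow p hrt
  · right
    apply mem_zpowers_of_orderOf_dvd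
    rw [hr, ht]
    exact pow_dvd_pow p hrt

/-- The set of commutators `⁅h, g⁆` is a cyclic subgroup of `G'`. -/
theorem exists_comm_generator (hG : IsPGroup p G) (h2 : p ≠ 2) {a b : G} (h : Setup a b) (g : G) :
    ∃ d ∈ commutator G, (∀ x : G, ⁅x, g⁆ ∈ zpowers d) ∧ ∀ z ∈ zpowers d, ∃ x : G, ⁅x, g⁆ = z := by
  have key : ∀ d : G, d ∈ commutator G → ⁅a, g⁆ ∈ zpowers d → ⁅b, g⁆ ∈ zpowers d →
      (∀ x : G, ⁅x, g⁆ ∈ zpowers d) := by
    intro d hd ha hb x
    obtain ⟨i, j, rfl⟩ := h.gen x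
    have hU : zpowers d ≤ commutator G := by rwa [zpowers_le]
    have hn := normal_of_le_commutator hG h _ hU
    have h1 : ⁅a ^ i * b ^ j, g⁆ = a ^ i * ⁅b ^ j, g⁆ * (a ^ i)⁻¹ * ⁅a ^ i, g⁆ := by
      simp only [commutatorElement_def]
      group
    rw [h1]
    obtain ⟨w, -, hw⟩ := comm_pow_left hG h a g
    obtain ⟨w', -, hw'⟩ := comm_pow_left hG h b g
    refine Subgroup.mul_mem _ (hn.conj_mem _ ?_ _) ?_
    · rw [hw' j]
      exact Subgroup.pow_mem _ hb _
    · rw [hw i]
      exact Subgroup.pow_mem _ ha _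
  have surj : ∀ x : G, ∀ z ∈ zpowers ⁅x, g⁆, ∃ y : G, ⁅y, g⁆ = z := by
    intro x z hz
    obtain ⟨l, rfl⟩ := exists_natPow_of_mem_zpowers hz
    obtain ⟨j, hj⟩ := exists_pow_comm_eq hG h2 h x g l
    exact ⟨x ^ j, hj⟩
  rcases zpowers_le_total hG h (comm_mem_commutator a g) (comm_mem_commutator b g) with h1 | h1
  · exact ⟨⁅b, g⁆, comm_mem_commutator _ _, key _ (comm_mem_commutator _ _) h1 (mem_zpowers _),
      surj b⟩
  · exact ⟨⁅a, g⁆, comm_mem_commutator _ _, key _ (comm_mem_commutator _ _) (mem_zpowers _) h1,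
      surj a⟩

/-- The class size of `g` is the order of a generator `d` of the set of commutators. -/
theorem index_centralizer_spec (hG : IsPGroup p G) (h2 : p ≠ 2) {a b : G} (h : Setup a b) (g : G) :
    ∃ d ∈ commutator G, (∀ x : G, ⁅x, g⁆ ∈ zpowers d) ∧
      (centralizer ({g} : Set G)).index = orderOf d := by
  obtain ⟨d, hd, h1, h3⟩ := exists_comm_generator hG h2 h g
  refine ⟨d, hd, h1, ?_⟩
  have := relIndex_centralizer_eq_of_image ⊤ g (zpowers d : Set G)
    (fun x _ => h1 x) (fun z hz => by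
      obtain ⟨x, hx⟩ := h3 z hz
      exact ⟨x, mem_top _, hx⟩)
  rw [relIndex_top_right] at this
  rw [this, ← Nat.card_coe_set_eq]
  exact Nat.card_zpowers d

omit [Finite G] in
theorem center_eq_inf {a b : G} (h : Setup a b) :
    center G = centralizer ({b} : Set G) ⊓ centralizer ({a} : Set G) := by
  ext g
  simp only [mem_inf, mem_centralizer_singleton_iff, mem_center_iff]
  constructor
  · intro hg
    exact ⟨(hg b).symm, (hg a).symm⟩
  · rintro ⟨h1, h3⟩ x
    obtain ⟨i, j, rfl⟩ := h.gen x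
    have c1 : Commute (a ^ i) g := (show Commute a g from h3.symm).pow_left i
    have c2 : Commute (b ^ j) g := (show Commute b g from h1.symm).pow_left j
    exact (c1.mul_left c2).eq

/-- The index of the centre of a metacyclic `p`-group, `p` odd, is `|G'|²`. -/
theorem index_center (hG : IsPGroup p G) (h2 : p ≠ 2) {a b : G} (h : Setup a b) :
    (center G).index = Nat.card (commutator G) ^ 2 := by
  have h1 : (centralizer ({a} : Set G)).index = Nat.card (commutator G) := by
    have := relIndex_centralizer_eq_of_image ⊤ a (commutator G : Set G)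
      (fun x _ => comm_mem_commutator x a) (fun z hz => by
        rw [SetLike.mem_coe, commutator_eq_zpowers h] at hz
        obtain ⟨l, rfl⟩ := exists_natPow_of_mem_zpowers hz
        obtain ⟨j, hj⟩ := exists_pow_comm_eq hG h2 h b a l
        exact ⟨b ^ j, mem_top _, hj⟩)
    rw [relIndex_top_right] at this
    rw [this, ← Nat.card_coe_set_eq]
    rfl
  have h3 : (centralizer ({b} : Set G)).relIndex (centralizer ({a} : Set G)) =
      Nat.card (commutator G) := by
    have := relIndex_centralizer_eq_of_image (centralizer ({a} : Set G)) b (commutator G : Set G)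
      (fun x _ => comm_mem_commutator x b) (fun z hz => by
        have hz' : z⁻¹ ∈ zpowers ⁅b, a⁆ := by
          rw [← commutator_eq_zpowers h]; exact inv_mem hz
        obtain ⟨l, hl⟩ := exists_natPow_of_mem_zpowers hz'
        obtain ⟨j, hj⟩ := exists_pow_comm_eq hG h2 h a b l
        refine ⟨a ^ j, ?_, ?_⟩
        · rw [mem_centralizer_singleton_iff]
          exact ((Commute.refl a).pow_left j).eq
        · rw [hj]
          have h4 : ⁅a, b⁆ = ⁅b, a⁆⁻¹ := (commutatorElement_inv b a).symm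
          rw [h4, inv_pow, ← hl, inv_inv])
    rw [this, ← Nat.card_coe_set_eq]
    rfl
  have h4 := relIndex_inf_mul_relIndex (centralizer ({b} : Set G)) (centralizer ({a} : Set G)) ⊤
  rw [inf_top_eq, relIndex_top_right, relIndex_top_right, ← center_eq_inf h, h1, h3] at h4
  rw [← h4, sq]

omit [Finite G] in
theorem mem_comap_center_iff (U : Subgroup G) [U.Normal] (g : G) :
    g ∈ (center (G ⧸ U)).comap (QuotientGroup.mk' U) ↔ ∀ x : G, ⁅x, g⁆ ∈ U := by
  rw [mem_comap, mem_center_iff]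
  constructor
  · intro hg x
    have h1 := hg (QuotientGroup.mk x)
    rw [← QuotientGroup.eq_one_iff, commutatorElement_def, QuotientGroup.mk_mul, QuotientGroup.mk_mul,
      QuotientGroup.mk_mul, QuotientGroup.mk_inv, QuotientGroup.mk_inv]
    change (QuotientGroup.mk x : G ⧸ U) * (QuotientGroup.mk g) = QuotientGroup.mk g * QuotientGroup.mk x at h1
    rw [h1]
    group
  · intro hg q
    induction q using QuotientGroup.induction_on with | H x => ?_
    have h1 := hg x
    rw [← QuotientGroup.eq_one_iff, commutatorElement_def, QuotientGroup.mk_mul, QuotientGroup.mk_mul,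
      QuotientGroup.mk_mul, QuotientGroup.mk_inv, QuotientGroup.mk_inv] at h1
    change (QuotientGroup.mk x : G ⧸ U) * (QuotientGroup.mk g) = QuotientGroup.mk g * QuotientGroup.mk x
    have h3 : (QuotientGroup.mk x : G ⧸ U) * QuotientGroup.mk g =
        ((QuotientGroup.mk x : G ⧸ U) * QuotientGroup.mk g * (QuotientGroup.mk x)⁻¹ * (QuotientGroup.mk g)⁻¹)
          * (QuotientGroup.mk g * QuotientGroup.mk x) := by group
    rw [h3, h1, one_mul]

/-- The index of the preimage of the centre of `G/U`, `U ≤ G'`. -/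
theorem index_comap_center (hG : IsPGroup p G) (h2 : p ≠ 2) {a b : G} (h : Setup a b)
    (U : Subgroup G) [U.Normal] :
    ((center (G ⧸ U)).comap (QuotientGroup.mk' U)).index = (U.relIndex (commutator G)) ^ 2 := by
  rw [index_comap_of_surjective _ (QuotientGroup.mk'_surjective U)]
  have hs := h.map (QuotientGroup.mk' U) (QuotientGroup.mk'_surjective U)
  have hq : IsPGroup p (G ⧸ U) := hG.to_quotient U
  rw [index_center hq h2 hs]
  have h3 : commutator (G ⧸ U) = (commutator G).map (QuotientGroup.mk' U) := by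
    rw [commutator_eq_zpowers hs, commutator_eq_zpowers h, MonoidHom.map_zpowers, map_commutatorElement]
  rw [h3, Cfsg.Agent.Lib.PGroups.MaxAbelian.card_map_mk_eq_relIndex]

/-- The subgroup `(G') ^ (p ^ s)` -/
abbrev powU (a b : G) (p s : ℕ) : Subgroup G := zpowers (⁅b, a⁆ ^ (p ^ s))

omit hp in
theorem powU_le {a b : G} (h : Setup a b) (p s : ℕ) : powU a b p s ≤ commutator G := by
  rw [commutator_eq_zpowers h, zpowers_le]
  exact Subgroup.pow_mem _ (mem_zpowers _) _

omit hp in
theorem card_commutator_eq {a b : G} (h : Setup a b) : Nat.card (commutator G) = orderOf ⁅b, a⁆ := by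
  rw [commutator_eq_zpowers h, Nat.card_zpowers]

theorem card_powU {a b : G} (h : Setup a b) {n s : ℕ} (hn : Nat.card (commutator G) = p ^ n)
    (hs : s ≤ n) : Nat.card (powU a b p s) = p ^ (n - s) := by
  rw [card_commutator_eq h] at hn
  rw [powU, Nat.card_zpowers, orderOf_pow_of_dvd (pow_ne_zero _ hp.out.ne_zero) (by
    rw [hn]; exact pow_dvd_pow p hs), hn]
  exact Nat.pow_div hs hp.out.pos

theorem relIndex_powU {a b : G} (h : Setup a b) {n s : ℕ} (hn : Nat.card (commutator G) = p ^ n)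
    (hs : s ≤ n) : (powU a b p s).relIndex (commutator G) = p ^ s := by
  have h1 := Cfsg.Agent.Lib.PGroups.MaxAbelian.relIndex_mul_card (powU_le h p s)
  rw [card_powU h hn hs, hn] at h1
  have h3 : p ^ s * p ^ (n - s) = p ^ n := by rw [← pow_add]; congr 1; omega
  rw [← h3] at h1
  exact Nat.eq_of_mul_eq_mul_right (pow_pos hp.out.pos _) h1

/-- `T_s = {g : [G, g] ≤ (G') ^ (p ^ s)}` is a subgroup of index `p ^ (2 * s)`. -/
theorem exists_T (hG : IsPGroup p G) (h2 : p ≠ 2) {a b : G} (h : Setup a b) {n s : ℕ}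
    (hn : Nat.card (commutator G) = p ^ n) (hs : s ≤ n) :
    ∃ T : Subgroup G, (∀ g : G, g ∈ T ↔ ∀ x : G, ⁅x, g⁆ ∈ powU a b p s) ∧ T.index = p ^ (2 * s) := by
  have := normal_of_le_commutator hG h _ (powU_le h p s)
  refine ⟨_, mem_comap_center_iff _, ?_⟩
  rw [index_comap_center hG h2 h _, relIndex_powU h hn hs, ← pow_mul, mul_comm]

theorem comm_mem_powU_iff (hG : IsPGroup p G) (h2 : p ≠ 2) {a b : G} (h : Setup a b) {n s : ℕ}
    (hn : Nat.card (commutator G) = p ^ n) (hs : s ≤ n) (g : G) :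
    (∀ x : G, ⁅x, g⁆ ∈ powU a b p s) ↔ (centralizer ({g} : Set G)).index ≤ p ^ (n - s) := by
  obtain ⟨d, hd, h1, h3⟩ := exists_comm_generator hG h2 h g
  have h4 : (centralizer ({g} : Set G)).index = orderOf d := by
    have := relIndex_centralizer_eq_of_image ⊤ g (zpowers d : Set G)
      (fun x _ => h1 x) (fun z hz => by
        obtain ⟨x, hx⟩ := h3 z hz
        exact ⟨x, mem_top _, hx⟩)
    rw [relIndex_top_right] at this
    rw [this, ← Nat.card_coe_set_eq]
    exact Nat.card_zpowers d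
  rw [h4]
  constructor
  · intro hg
    obtain ⟨x, hx⟩ := h3 d (mem_zpowers d)
    have h5 : d ∈ powU a b p s := hx ▸ hg x
    have h6 : orderOf d ∣ Nat.card (powU a b p s) := by
      rw [← Nat.card_zpowers]
      apply Subgroup.card_dvd_of_le
      rwa [zpowers_le]
    rw [card_powU h hn hs] at h6
    exact Nat.le_of_dvd (pow_pos hp.out.pos _) h6
  · intro hle x
    have h5 : d ∈ powU a b p s := by
      rw [commutator_eq_zpowers h] at hd
      obtain ⟨k, rfl⟩ := exists_natPow_of_mem_zpowers hd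
      apply mem_zpowers_of_orderOf_dvd
      obtain ⟨r, hr⟩ := orderOf_eq_prime_pow hG (⁅b, a⁆ ^ k)
      rw [hr] at hle
      have hcard := card_powU h hn hs
      rw [powU, Nat.card_zpowers] at hcard
      rw [hr, hcard]
      exact pow_dvd_pow p ((Nat.pow_le_pow_iff_right hp.out.one_lt).mp hle)
    have h6 : zpowers d ≤ powU a b p s := by rwa [zpowers_le]
    exact h6 (h1 x)

/-- `p^s`-th powers of elements lie in `T_s`. -/
theorem comm_pow_mem_powU (hG : IsPGroup p G) (h2 : p ≠ 2) {a b : G} (h : Setup a b) (s : ℕ)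
    (x y : G) : ⁅x, y ^ p ^ s⁆ ∈ powU a b p s := by
  obtain ⟨w, hw, hj⟩ := comm_pow_left hG h y x
  have h1 : ⁅x, y ^ p ^ s⁆ = (⁅y ^ p ^ s, x⁆)⁻¹ := (commutatorElement_inv _ _).symm
  rw [h1, hj]
  apply inv_mem
  have h3 : p ^ s ∣ gs w (p ^ s) := (dvd_gs_iff hp.out h2 hw s _).mpr dvd_rfl
  obtain ⟨k, hk⟩ := h3
  have h4 := comm_mem_commutator y x
  rw [commutator_eq_zpowers h] at h4
  obtain ⟨i, hi⟩ := exists_natPow_of_mem_zpowers h4
  rw [hi, hk]
  have h5 : (⁅b, a⁆ ^ i) ^ (p ^ s * k) = (⁅b, a⁆ ^ p ^ s) ^ (i * k) := by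
    rw [← pow_mul, ← pow_mul]
    congr 1
    ring
  rw [h5]
  exact Subgroup.pow_mem _ (mem_zpowers _) _

omit [Finite G] hp in
theorem closure_powers_normal (m : ℕ) : (closure {x : G | ∃ y : G, y ^ m = x}).Normal := by
  constructor
  intro n hn g
  induction hn using closure_induction with
  | mem x hx =>
    obtain ⟨y, rfl⟩ := hx
    apply Subgroup.subset_closure
    exact ⟨g * y * g⁻¹, by rw [conj_mul_pow]⟩
  | one => simp [one_mem]
  | mul x y _ _ hx hy =>
    have : g * (x * y) * g⁻¹ = (g * x * g⁻¹) * (g * y * g⁻¹) := by group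
    rw [this]
    exact mul_mem hx hy
  | inv x _ hx =>
    have : g * x⁻¹ * g⁻¹ = (g * x * g⁻¹)⁻¹ := by group
    rw [this]
    exact inv_mem hx

omit hp [Finite G] in
theorem index_closure_powers_le {a b : G} (h : Setup a b) (m : ℕ) (hm : 0 < m) :
    (closure {x : G | ∃ y : G, y ^ m = x}).index ≤ m * m := by
  have hN := closure_powers_normal (G := G) m
  set O := closure {x : G | ∃ y : G, y ^ m = x} with hO
  have hpow : ∀ g : G, ((g : G ⧸ O)) ^ m = 1 := by
    intro g
    rw [← QuotientGroup.mk_pow, QuotientGroup.eq_one_iff]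
    exact Subgroup.subset_closure ⟨g, rfl⟩
  have : NeZero m := ⟨hm.ne'⟩
  let f : Fin m × Fin m → G ⧸ O := fun q => ((a : G ⧸ O)) ^ (q.1 : ℕ) * ((b : G ⧸ O)) ^ (q.2 : ℕ)
  have hf : Function.Surjective f := by
    intro q
    induction q using QuotientGroup.induction_on with | H g => ?_
    obtain ⟨i, j, rfl⟩ := h.gen g
    refine ⟨(⟨i % m, Nat.mod_lt _ hm⟩, ⟨j % m, Nat.mod_lt _ hm⟩), ?_⟩
    simp only [f]
    rw [← pow_eq_pow_mod i (hpow a), ← pow_eq_pow_mod j (hpow b)]
    simp
  rw [index]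
  calc Nat.card (G ⧸ O) ≤ Nat.card (Fin m × Fin m) := Nat.card_le_card_of_surjective f hf
    _ = m * m := by simp

theorem closure_powers_eq (hG : IsPGroup p G) (h2 : p ≠ 2) {a b : G} (h : Setup a b) {n s : ℕ}
    (hn : Nat.card (commutator G) = p ^ n) (hs : s ≤ n) (g : G) :
    g ∈ closure {x : G | ∃ y : G, y ^ p ^ s = x} ↔ ∀ x : G, ⁅x, g⁆ ∈ powU a b p s := by
  obtain ⟨T, hT, hi⟩ := exists_T hG h2 h hn hs
  rw [← hT]
  suffices closure {x : G | ∃ y : G, y ^ p ^ s = x} = T by rw [this]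
  have hle : closure {x : G | ∃ y : G, y ^ p ^ s = x} ≤ T := by
    rw [closure_le]
    rintro _ ⟨y, rfl⟩
    rw [SetLike.mem_coe, hT]
    exact fun x => comm_pow_mem_powU hG h2 h s x y
  have hidx := index_closure_powers_le h (p ^ s) (pow_pos hp.out.pos _)
  apply eq_of_le_of_card_ge hle
  have h3 := card_mul_index (closure {x : G | ∃ y : G, y ^ p ^ s = x})
  have h4 := card_mul_index T
  rw [hi] at h4
  have h5 : p ^ s * p ^ s = p ^ (2 * s) := by rw [← pow_add]; congr 1; omega
  rw [h5] at hidx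
  have hGpos : 0 < Nat.card G := Nat.card_pos
  by_contra hlt
  rw [not_le] at hlt
  have : Nat.card (closure {x : G | ∃ y : G, y ^ p ^ s = x}) * (closure {x : G | ∃ y : G, y ^ p ^ s = x}).index
      < Nat.card T * p ^ (2 * s) :=
    Nat.mul_lt_mul_of_lt_of_le hlt hidx (pow_pos hp.out.pos _)
  omega

theorem closure_powers_top_eq_center (hG : IsPGroup p G) (h2 : p ≠ 2) {a b : G} (h : Setup a b)
    {n : ℕ} (hn : Nat.card (commutator G) = p ^ n) :
    closure {x : G | ∃ y : G, y ^ p ^ n = x} = center G := by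
  ext g
  rw [closure_powers_eq hG h2 h hn le_rfl, mem_center_iff]
  have h1 : (⁅b, a⁆ : G) ^ p ^ n = 1 := by
    rw [← hn, card_commutator_eq h]
    exact pow_orderOf_eq_one _
  constructor
  · intro hg x
    have h3 := hg x
    rw [powU, h1, zpowers_one_eq_bot, mem_bot, commutatorElement_eq_one_iff_mul_comm] at h3
    exact h3
  · intro hg x
    rw [powU, h1, zpowers_one_eq_bot, mem_bot, commutatorElement_eq_one_iff_mul_comm]
    exact hg x

end Cfsg.Agent.Lib.Metacyclic.Class
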