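import Cfsg.Agent.Lib.Metacyclic.Subgroups
import Cfsg.Prelude.Def_BaumannBlocks

/-!
# Metacyclic `p`-groups, `p` odd: the measure `|R| |C(R)|`
-/

set_option autoImplicit false

namespace Cfsg.Agent.Lib.Metacyclic.Large

open Cfsg.Agent.Lib.Metacyclic.Arith Cfsg.Agent.Lib.Metacyclic.Basic
open Cfsg.Agent.Lib.Metacyclic.Comm Cfsg.Agent.Lib.Metacyclic.Class
open Cfsg.Agent.Lib.Metacyclic.Subgroups
open Subgroup
open scoped commutatorElement

variable {G : Type*} [Group G] [Finite G] {p : ℕ} [hp : Fact p.Prime]

theorem mem_powU_of_pow_eq_one {a b : G} (h : Setup a b) {n : ℕ}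
    (hn : Nat.card (commutator G) = p ^ n) {d : G} (hd : d ∈ commutator G) (hdp : d ^ p = 1) :
    d ∈ powU a b p (n - 1) := by
  by_cases hd1 : d = 1
  · rw [hd1]; exact one_mem _
  have hord : orderOf d = p := orderOf_eq_prime hdp hd1
  have hnpos : n ≠ 0 := by
    rintro rfl
    rw [pow_zero, Subgroup.card_eq_one] at hn
    rw [hn, mem_bot] at hd
    exact hd1 hd
  have hcard := card_powU h hn (Nat.sub_le n 1)
  rw [powU, Nat.card_zpowers, show n - (n - 1) = 1 by omega, pow_one] at hcard
  rw [commutator_eq_zpowers h] at hd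
  obtain ⟨k, rfl⟩ := exists_natPow_of_mem_zpowers hd
  apply mem_zpowers_of_orderOf_dvd
  rw [hord, hcard]

theorem card_powU_pred_le {a b : G} (h : Setup a b) {n : ℕ}
    (hn : Nat.card (commutator G) = p ^ n) :
    Nat.card (powU a b p (n - 1)) ≤ p := by
  rw [card_powU h hn (Nat.sub_le n 1)]
  calc p ^ (n - (n - 1)) ≤ p ^ 1 := Nat.pow_le_pow_right hp.out.pos (by omega)
    _ = p := pow_one p

/-- The crucial step: `R ≤ S` of index `p` then `|C(R) : C(S)| ≤ p`. -/
theorem card_centralizer_le_step (hG : IsPGroup p G) (h2 : p ≠ 2) {a b : G} (h : Setup a b)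
    {R S : Subgroup G} (hRS : R ≤ S) (hi : R.relIndex S = p) :
    Nat.card (centralizer (R : Set G)) ≤ p * Nat.card (centralizer (S : Set G)) := by
  obtain ⟨n, hn⟩ : ∃ n, Nat.card (commutator G) = p ^ n := (hG.to_subgroup _).exists_card_eq
  have hp1 := hp.out.one_lt
  -- an element outside
  obtain ⟨y, hyS, hyR⟩ : ∃ y ∈ S, y ∉ R := by
    by_contra hcon
    push Not at hcon
    have : S ≤ R := hcon
    rw [relIndex_eq_one.mpr this] at hi
    exact hp1.ne hi
  -- `y ^ p ∈ R`
  have hyp : y ^ p ∈ R := by
    have hSp : IsPGroup p S := hG.to_subgroup S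
    have hi' : (R.subgroupOf S).index = p := hi
    have hprime : (R.subgroupOf S).index.Prime := by rw [hi']; exact hp.out
    have hnorm : (R.subgroupOf S).Normal :=
      Cfsg.Agent.Lib.PGroups.Basic.normal_of_isCoatom hSp
        (Cfsg.Agent.Lib.PGroups.Basic.isCoatom_of_index_prime hprime)
    have h3 : ((⟨y, hyS⟩ : S) ^ p) ∈ R.subgroupOf S := by
      rw [← QuotientGroup.eq_one_iff, QuotientGroup.mk_pow]
      have : Nat.card (S ⧸ R.subgroupOf S) = p := by rw [← index_eq_card, hi']
      rw [← this]
      exact pow_card_eq_one'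
    rw [mem_subgroupOf] at h3
    simpa using h3
  -- `S = R ⊔ ⟨y⟩`
  have hsup : S ≤ R ⊔ zpowers y := by
    rw [← relIndex_eq_one]
    have h4 : R ≤ R ⊔ zpowers y := le_sup_left
    have h5 : R ⊔ zpowers y ≤ S := sup_le hRS (by rwa [zpowers_le])
    have h6 := relIndex_mul_relIndex R (R ⊔ zpowers y) S h4 h5
    rw [hi] at h6
    have h7 : R.relIndex (R ⊔ zpowers y) ≠ 1 := by
      rw [Ne, relIndex_eq_one]
      intro hle
      exact hyR (hle (mem_sup_right (mem_zpowers y)))
    have hdvd : R.relIndex (R ⊔ zpowers y) ∣ p := ⟨_, h6.symm⟩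
    have h8 := (Nat.dvd_prime hp.out).mp hdvd
    have h9 : R.relIndex (R ⊔ zpowers y) = p := h8.resolve_left h7
    rw [h9] at h6
    exact Nat.eq_of_mul_eq_mul_left hp.out.pos (by rw [h6, mul_one])
  -- the centralizer of `S`
  have hCS : centralizer ({y} : Set G) ⊓ centralizer (R : Set G) = centralizer (S : Set G) := by
    ext h'
    rw [mem_inf, mem_centralizer_singleton_iff, mem_centralizer_iff, mem_centralizer_iff]
    constructor
    · rintro ⟨h3, h4⟩ s hs
      have hle : R ⊔ zpowers y ≤ centralizer ({h'} : Set G) := by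
        apply sup_le
        · intro r hr
          rw [mem_centralizer_singleton_iff]
          exact (h4 r hr)
        · rw [zpowers_le, mem_centralizer_singleton_iff]
          exact h3.symm
      have := hle (hsup hs)
      rw [mem_centralizer_singleton_iff] at this
      exact this
    · intro h3
      exact ⟨(h3 y hyS).symm, fun r hr => h3 r (hRS hr)⟩
  have hbound : (centralizer ({y} : Set G)).relIndex (centralizer (R : Set G)) ≤ p := by
    refine le_trans (relIndex_centralizer_le_of_image _ y (powU a b p (n - 1) : Set G) ?_) ?_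
    · intro x hx
      have hc : ⁅y ^ p, x⁆ = 1 := by
        rw [commutatorElement_eq_one_iff_mul_comm]
        exact ((mem_centralizer_iff.mp hx) _ hyp)
      obtain ⟨w, hw, hj⟩ := comm_pow_left hG h y x
      rw [hj] at hc
      obtain ⟨u, hu⟩ : p ^ 1 ∣ gs w p := by
        rw [dvd_gs_iff hp.out h2 hw 1 p]
        simp
      have huc : Nat.Coprime u p := by
        rw [Nat.coprime_comm, hp.out.coprime_iff_not_dvd]
        intro hd
        obtain ⟨v, rfl⟩ := hd
        have h3 : p ^ 2 ∣ gs w p := ⟨v, by rw [hu]; ring⟩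
        have h4 := (dvd_gs_iff hp.out h2 hw 2 _).mp h3
        have h5 : 2 ≤ 1 := (Nat.pow_dvd_pow_iff_le_right hp1).mp (by simpa using h4)
        omega
      rw [hu, pow_one, pow_mul] at hc
      have h3 : orderOf (⁅y, x⁆ ^ p) ∣ u := orderOf_dvd_of_pow_eq_one hc
      obtain ⟨r, hr⟩ := orderOf_eq_prime_pow hG (⁅y, x⁆ ^ p)
      have h4 : r = 0 := by
        by_contra hr0
        have h5 : p ∣ u := by
          rw [hr] at h3
          exact (dvd_pow_self p hr0).trans h3
        have := Nat.Coprime.eq_one_of_dvd huc.symm h5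
        exact hp1.ne' this
      rw [h4, pow_zero, orderOf_eq_one_iff] at hr
      have h5 : ⁅x, y⁆ = (⁅y, x⁆)⁻¹ := (commutatorElement_inv y x).symm
      rw [SetLike.mem_coe, h5]
      exact inv_mem (mem_powU_of_pow_eq_one h hn (comm_mem_commutator y x) hr)
    · rw [show Set.ncard (powU a b p (n - 1) : Set G) = Nat.card (powU a b p (n - 1)) from
        (Nat.card_coe_set_eq _).symm]
      exact card_powU_pred_le h hn
  have h3 := Cfsg.Agent.Lib.PGroups.MaxAbelian.relIndex_mul_card
    (inf_le_right : centralizer ({y} : Set G) ⊓ centralizer (R : Set G) ≤ centralizer (R : Set G))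
  rw [inf_relIndex_right, hCS] at h3
  rw [← h3]
  exact Nat.mul_le_mul_right _ hbound

/-- The measure. -/
noncomputable abbrev meas (R : Subgroup G) : ℕ := Nat.card R * Nat.card (centralizer (R : Set G))

theorem meas_step (hG : IsPGroup p G) (h2 : p ≠ 2) {a b : G} (h : Setup a b)
    {R S : Subgroup G} (hRS : R ≤ S) (hi : R.relIndex S = p) : meas R ≤ meas S := by
  have h3 := card_centralizer_le_step hG h2 h hRS hi
  have h4 := Cfsg.Agent.Lib.PGroups.MaxAbelian.relIndex_mul_card hRS
  rw [hi] at h4
  rw [meas, meas, ← h4]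
  calc Nat.card R * Nat.card (centralizer (R : Set G))
      ≤ Nat.card R * (p * Nat.card (centralizer (S : Set G))) := Nat.mul_le_mul_left _ h3
    _ = _ := by ring

theorem meas_mono (hG : IsPGroup p G) (h2 : p ≠ 2) {a b : G} (h : Setup a b)
    {R S : Subgroup G} (hRS : R ≤ S) : meas R ≤ meas S := by
  induction' hk : Nat.card S - Nat.card R using Nat.strong_induction_on with k ih generalizing R
  by_cases hEq : R = S
  · rw [hEq]
  have hlt : R < S := lt_of_le_of_ne hRS hEq
  obtain ⟨l, hl⟩ := (hG.to_subgroup R).exists_card_eq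
  obtain ⟨t, ht⟩ := (hG.to_subgroup S).exists_card_eq
  have hcl : Nat.card R < Nat.card S := Cfsg.Agent.Lib.PGroups.Basic.card_lt_of_lt hlt
  have hlt' : l < t := by
    rw [hl, ht] at hcl
    exact (Nat.pow_lt_pow_iff_right hp.out.one_lt).mp hcl
  have hcR' : Nat.card (R.subgroupOf S) = p ^ l := by
    rw [← hl]
    exact Nat.card_congr (subgroupOfEquivOfLe hRS).toEquiv
  have hdvd : p ^ (l + 1) ∣ Nat.card S := by
    rw [ht]; exact pow_dvd_pow p (by omega)
  obtain ⟨K', hK', hRK'⟩ := Sylow.exists_subgroup_card_pow_succ hdvd hcR'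
  have hcK : Nat.card (K'.map S.subtype) = p ^ (l + 1) := by
    rw [← hK']
    exact Nat.card_congr (K'.equivMapOfInjective _ S.subtype_injective).symm.toEquiv
  have hRK : R ≤ K'.map S.subtype := by
    intro x hx
    exact ⟨⟨x, hRS hx⟩, hRK' (by simpa [mem_subgroupOf] using hx), rfl⟩
  have hKS : K'.map S.subtype ≤ S := map_subtype_le K'
  have hidx : R.relIndex (K'.map S.subtype) = p := by
    have := Cfsg.Agent.Lib.PGroups.MaxAbelian.relIndex_mul_card hRK
    rw [hcK, hl, pow_succ] at this
    rw [mul_comm] at this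
    exact Nat.eq_of_mul_eq_mul_left (pow_pos hp.out.pos l) this
  have hstep := meas_step hG h2 h hRK hidx
  have hcK2 : Nat.card S - Nat.card (K'.map S.subtype) < k := by
    rw [← hk, hcK, hl]
    have h5 : p ^ l < p ^ (l + 1) := Nat.pow_lt_pow_right hp.out.one_lt (by omega)
    have h6 : p ^ (l + 1) ≤ Nat.card S := by
      rw [ht]; exact Nat.pow_le_pow_right hp.out.pos (by omega)
    omega
  exact hstep.trans (ih _ hcK2 hKS rfl)

omit [Finite G] hp in
theorem centralizer_center_eq : centralizer (center G : Set G) = ⊤ := by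
  rw [eq_top_iff]
  intro g _
  rw [mem_centralizer_iff]
  intro z hz
  exact (mem_center_iff.mp hz g).symm

omit [Finite G] hp in
theorem center_le_centralizer_set (S : Set G) : center G ≤ centralizer S := by
  intro z hz
  rw [mem_centralizer_iff]
  intro s _
  exact (mem_center_iff.mp hz s)

omit [Finite G] hp in
theorem meas_top : meas (⊤ : Subgroup G) = Nat.card G * Nat.card (center G) := by
  rw [meas, Nat.card_congr (Subgroup.topEquiv (G := G)).toEquiv, coe_top, centralizer_univ]

omit [Finite G] hp in
theorem meas_center : meas (center G) = Nat.card G * Nat.card (center G) := by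
  rw [meas, centralizer_center_eq, Nat.card_congr (Subgroup.topEquiv (G := G)).toEquiv, mul_comm]

theorem meas_eq_of_center_le (hG : IsPGroup p G) (h2 : p ≠ 2) {a b : G} (h : Setup a b)
    {R : Subgroup G} (hZ : center G ≤ R) : meas R = Nat.card G * Nat.card (center G) := by
  apply le_antisymm
  · rw [← meas_top]
    exact meas_mono hG h2 h le_top
  · rw [← meas_center]
    exact meas_mono hG h2 h hZ

theorem meas_lt_of_not_center_le (hG : IsPGroup p G) (h2 : p ≠ 2) {a b : G} (h : Setup a b)
    {R : Subgroup G} (hZ : ¬ center G ≤ R) : meas R < Nat.card G * Nat.card (center G) := by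
  have h1 : meas (R ⊔ center G) = Nat.card G * Nat.card (center G) :=
    meas_eq_of_center_le hG h2 h le_sup_right
  have hC : centralizer ((R ⊔ center G : Subgroup G) : Set G) = centralizer (R : Set G) := by
    apply le_antisymm
    · exact centralizer_le (by exact_mod_cast (le_sup_left : R ≤ R ⊔ center G))
    · intro x hx
      rw [mem_centralizer_iff]
      have hle : R ⊔ center G ≤ centralizer ({x} : Set G) := by
        apply sup_le
        · intro r hr
          rw [mem_centralizer_singleton_iff]
          exact (mem_centralizer_iff.mp hx r hr)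
        · exact center_le_centralizer_set _
      intro y hy
      have := hle hy
      rw [mem_centralizer_singleton_iff] at this
      exact this
  have hlt : R < R ⊔ center G := by
    refine lt_of_le_of_ne le_sup_left ?_
    intro he
    apply hZ
    rw [he]
    exact le_sup_right
  have hc : Nat.card R < Nat.card (R ⊔ center G : Subgroup G) :=
    Cfsg.Agent.Lib.PGroups.Basic.card_lt_of_lt hlt
  rw [← h1, meas, meas, hC]
  exact Nat.mul_lt_mul_of_pos_right hc Nat.card_pos

theorem maxCentralizerProduct_eq (hG : IsPGroup p G) (h2 : p ≠ 2) {a b : G} (h : Setup a b) :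
    Cfsg.maxCentralizerProduct G = Nat.card G * Nat.card (center G) := by
  apply IsGreatest.csSup_eq
  constructor
  · exact ⟨⊤, meas_top⟩
  · rintro _ ⟨R, rfl⟩
    rw [← meas_top]
    exact meas_mono hG h2 h le_top

theorem isCentralizerLarge_iff (hG : IsPGroup p G) (h2 : p ≠ 2) {a b : G} (h : Setup a b)
    (R : Subgroup G) : Cfsg.IsCentralizerLarge R ↔ center G ≤ R := by
  rw [Cfsg.IsCentralizerLarge, maxCentralizerProduct_eq hG h2 h]
  constructor
  · intro he
    by_contra hZ
    have := meas_lt_of_not_center_le hG h2 h hZ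
    rw [meas, he] at this
    exact lt_irrefl _ this
  · exact fun hZ => meas_eq_of_center_le hG h2 h hZ

theorem eq_centralizer_inf (hG : IsPGroup p G) (h2 : p ≠ 2) {a b : G} (h : Setup a b)
    (K : Subgroup G) (hK : IsMulCommutative K) (hZ : center G ≤ K) :
    K = centralizer (K : Set G) ⊓ centralizer (centralizer (K : Set G) : Set G) := by
  have h1 := meas_eq_of_center_le hG h2 h hZ
  have h3 := meas_eq_of_center_le hG h2 h (center_le_centralizer_set (K : Set G))
  have hKC : K ≤ centralizer (K : Set G) := by
    intro x hx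
    rw [mem_centralizer_iff]
    intro y hy
    have : (⟨y, hy⟩ : K) * ⟨x, hx⟩ = ⟨x, hx⟩ * ⟨y, hy⟩ := hK.is_comm.comm _ _
    exact congrArg Subtype.val this
  have hKCC : K ≤ centralizer (centralizer (K : Set G) : Set G) := by
    intro x hx
    rw [mem_centralizer_iff]
    intro y hy
    exact (mem_centralizer_iff.mp hy x hx).symm
  have hc : Nat.card K = Nat.card (centralizer (centralizer (K : Set G) : Set G)) := by
    have h4 : meas K = meas (centralizer (K : Set G)) := by rw [h1, h3]
    rw [meas, meas, mul_comm] at h4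
    exact Nat.eq_of_mul_eq_mul_left Nat.card_pos h4
  have hEq : K = centralizer (centralizer (K : Set G) : Set G) :=
    eq_of_le_of_card_ge hKCC hc.symm.le
  rw [← hEq]
  exact (inf_eq_right.mpr hKC).symm

theorem card_mul_center_of_not_comm (hG : IsPGroup p G) (h2 : p ≠ 2) {a b : G} (h : Setup a b)
    (R : Subgroup G) (hna : ¬ IsMulCommutative R) :
    Nat.card R * Nat.card (center R) = (commutator G).index ^ 2 := by
  obtain ⟨n, hn⟩ : ∃ n, Nat.card (commutator G) = p ^ n := (hG.to_subgroup _).exists_card_eq
  obtain ⟨γ, h1, h3, a₁, y, hs⟩ := exists_gamma hG h2 h hn R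
  have hpos := hp.out.pos
  have hne : Nat.card (commutator R) ≠ 1 := by
    rwa [Ne, ← isMulCommutative_iff_card_commutator]
  have hlt : γ < n := by
    by_contra hle
    rw [not_lt] at hle
    rw [min_eq_left hle] at h3
    exact hne (Nat.eq_of_mul_eq_mul_right (pow_pos hpos n) (by rw [h3, one_mul]))
  rw [min_eq_right hlt.le] at h3
  have hZ := index_center (hG.to_subgroup R) h2 hs
  have hcZ := card_mul_index (center R)
  rw [hZ] at hcZ
  have hI := card_mul_index (commutator G)
  rw [hn, ← h3] at hI
  rw [← hI] at h1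
  have hR : Nat.card R = Nat.card (commutator R) * (commutator G).index := by
    apply Nat.eq_of_mul_eq_mul_right (pow_pos hpos γ)
    rw [h1]
    ring
  have hcpos : 0 < Nat.card (commutator R) := Nat.card_pos
  apply Nat.eq_of_mul_eq_mul_right (pow_pos hcpos 2)
  calc Nat.card R * Nat.card (center R) * Nat.card (commutator R) ^ 2
      = Nat.card R * (Nat.card (center R) * Nat.card (commutator R) ^ 2) := by ring
    _ = Nat.card R * Nat.card R := by rw [hcZ]
    _ = (Nat.card (commutator R) * (commutator G).index) *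
          (Nat.card (commutator R) * (commutator G).index) := by rw [← hR]
    _ = _ := by ring

omit [Finite G] hp in
theorem card_center_of_comm (R : Subgroup G) (hc : IsMulCommutative R) :
    Nat.card (center R) = Nat.card R := by
  have : center R = ⊤ := by
    rw [eq_top_iff]
    intro x _
    rw [mem_center_iff]
    intro y
    exact hc.is_comm.comm y x
  rw [this]
  exact Nat.card_congr Subgroup.topEquiv.toEquiv

theorem maxCentralProduct_eq (hG : IsPGroup p G) (h2 : p ≠ 2) {a b : G} (h : Setup a b) :
    Cfsg.maxCentralProduct G = (commutator G).index ^ 2 := by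
  apply IsGreatest.csSup_eq
  constructor
  · refine ⟨⊤, ?_⟩
    by_cases hc : IsMulCommutative (⊤ : Subgroup G)
    · rw [card_center_of_comm _ hc, ← sq]
      congr 1
      apply le_antisymm
      · exact (isMulCommutative_iff_card_le hG h2 h _).mp hc
      · rw [Nat.card_congr (Subgroup.topEquiv (G := G)).toEquiv]
        exact Nat.le_of_dvd Nat.card_pos (index_dvd_card _)
    · exact card_mul_center_of_not_comm hG h2 h _ hc
  · rintro _ ⟨R, rfl⟩
    by_cases hc : IsMulCommutative R
    · rw [card_center_of_comm _ hc, ← sq]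
      exact Nat.pow_le_pow_left ((isMulCommutative_iff_card_le hG h2 h _).mp hc) 2
    · exact (card_mul_center_of_not_comm hG h2 h _ hc).le

theorem isCentrallyLarge_iff (hG : IsPGroup p G) (h2 : p ≠ 2) {a b : G} (h : Setup a b)
    (R : Subgroup G) : Cfsg.IsCentrallyLarge R ↔
      (¬ IsMulCommutative R ∨ Maximal (fun K : Subgroup G => IsMulCommutative K) R) := by
  rw [Cfsg.IsCentrallyLarge, maxCentralProduct_eq hG h2 h, maximal_abelian_iff hG h2 h]
  by_cases hc : IsMulCommutative R
  · rw [card_center_of_comm _ hc, ← sq]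
    constructor
    · intro he
      right
      exact Nat.pow_left_injective (n := 2) (by norm_num) he
    · rintro (h3 | h3)
      · exact absurd hc h3
      · rw [h3]
  · constructor
    · exact fun _ => Or.inl hc
    · exact fun _ => card_mul_center_of_not_comm hG h2 h _ hc

end Cfsg.Agent.Lib.Metacyclic.Large
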