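import Cfsg.Agent.Lib.Metacyclic.Subgroups

/-!
# Metacyclic `p`-groups, `p` odd: a product of two cyclic subgroups with trivial intersection
-/

set_option autoImplicit false

namespace Cfsg.Agent.Lib.Metacyclic.Split

open Cfsg.Agent.Lib.Metacyclic.Arith Cfsg.Agent.Lib.Metacyclic.Basic
open Cfsg.Agent.Lib.Metacyclic.Comm
open Subgroup
open scoped commutatorElement

theorem exists_solve {q U : ℕ} (v : ℕ) (hq : 0 < q) (hc : Nat.Coprime U q) :
    ∃ f : ℕ, q ∣ f * U + v := by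
  have : NeZero q := ⟨hq.ne'⟩
  let u := ZMod.unitOfCoprime U hc
  refine ⟨ZMod.val (-(v : ZMod q) * ((u⁻¹ : (ZMod q)ˣ) : ZMod q)), ?_⟩
  rw [← ZMod.natCast_eq_zero_iff]
  push_cast
  rw [ZMod.natCast_zmod_val]
  have hU : (U : ZMod q) = (u : ZMod q) := by simp [u]
  rw [hU, mul_assoc, Units.inv_mul]
  ring

variable {G : Type*} [Group G]

theorem pow_formula (a g : G) {u : ℕ} (hu : g * a * g⁻¹ = a ^ u) (f j : ℕ) :
    (a ^ f * g) ^ j = a ^ (f * gs u j) * g ^ j := by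
  have hk : ∀ k : ℕ, g * a ^ k = a ^ (u * k) * g := by
    intro k
    have h1 : g * a ^ k * g⁻¹ = (g * a * g⁻¹) ^ k := conj_mul_pow g a k
    rw [hu, ← pow_mul] at h1
    rw [← h1]
    group
  induction j with
  | zero => simp
  | succ j ih =>
    rw [pow_succ', ih, gs_succ]
    calc a ^ f * g * (a ^ (f * gs u j) * g ^ j)
        = a ^ f * (g * a ^ (f * gs u j)) * g ^ j := by group
      _ = a ^ f * (a ^ (u * (f * gs u j)) * g) * g ^ j := by rw [hk]
      _ = a ^ (f + u * (f * gs u j)) * (g * g ^ j) := by rw [pow_add]; group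
      _ = a ^ (f * (1 + u * gs u j)) * g ^ (j + 1) := by
          rw [pow_succ' g j]
          congr 2
          ring

variable [Finite G] {p : ℕ} [hp : Fact p.Prime]

/-- Data of `gs u (p ^ k)`. -/
theorem gs_pow_eq (h2 : p ≠ 2) {u : ℕ} (hu : u ≡ 1 [MOD p]) (k : ℕ) :
    ∃ U : ℕ, Nat.Coprime U p ∧ gs u (p ^ k) = p ^ k * U := by
  obtain ⟨U, hU⟩ : p ^ k ∣ gs u (p ^ k) := (dvd_gs_iff hp.out h2 hu k _).mpr dvd_rfl
  refine ⟨U, ?_, hU⟩
  rw [Nat.coprime_comm, hp.out.coprime_iff_not_dvd]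
  intro hd
  obtain ⟨v, rfl⟩ := hd
  have h3 : p ^ (k + 1) ∣ gs u (p ^ k) := ⟨v, by rw [hU]; ring⟩
  have h4 := (dvd_gs_iff hp.out h2 hu (k + 1) _).mp h3
  have h5 := (Nat.pow_dvd_pow_iff_le_right hp.out.one_lt).mp h4
  omega

omit hp in
/-- Split in the case when `b` can be corrected to an element `x` of order `p ^ s`. -/
theorem split_caseA {a b : G} [(zpowers a).Normal] {m s : ℕ} (hm : orderOf a = p ^ m)
    (hs : orderOf ((b : G) : G ⧸ zpowers a) = p ^ s) (hc : Nat.card G = p ^ m * p ^ s) (x : G)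
    (hx : ((x : G) : G ⧸ zpowers a) = (b : G ⧸ zpowers a)) (hxp : x ^ p ^ s = 1) :
    ∃ A B : Subgroup G, IsCyclic A ∧ IsCyclic B ∧ A ⊓ B = ⊥ ∧ Nat.card A * Nat.card B = Nat.card G := by
  refine ⟨zpowers a, zpowers x, inferInstance, inferInstance, ?_, ?_⟩
  · rw [eq_bot_iff]
    rintro z ⟨hz1, hz2⟩
    obtain ⟨j, rfl⟩ := exists_natPow_of_mem_zpowers hz2
    have h1 : ((x ^ j : G) : G ⧸ zpowers a) = 1 := (QuotientGroup.eq_one_iff _).mpr hz1
    rw [QuotientGroup.mk_pow, hx] at h1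
    have h3 := orderOf_dvd_of_pow_eq_one h1
    rw [hs] at h3
    obtain ⟨q, rfl⟩ := h3
    rw [mem_bot, pow_mul, hxp, one_pow]
  · rw [Nat.card_zpowers, Nat.card_zpowers, hm, hc]
    congr 1
    have h1 : orderOf x ∣ p ^ s := orderOf_dvd_of_pow_eq_one hxp
    have h3 : p ^ s ∣ orderOf x := by
      rw [← hs, ← hx]
      exact orderOf_map_dvd (QuotientGroup.mk' (zpowers a)) x
    exact Nat.dvd_antisymm h1 h3

/-- The other case. -/
theorem split_caseB (hG : IsPGroup p G) (h2 : p ≠ 2) {a b : G} [(zpowers a).Normal] (h : Setup a b)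
    {m s t v v' : ℕ}
    (hm : orderOf a = p ^ m)
    (hs : orderOf ((b : G) : G ⧸ zpowers a) = p ^ s) (hc : Nat.card G = p ^ m * p ^ s)
    (hv : b ^ p ^ s = a ^ v) (htm : t < m) (hts : t < s) (hvv : v = p ^ t * v')
    (hv' : Nat.Coprime v' p) :
    ∃ A B : Subgroup G, IsCyclic A ∧ IsCyclic B ∧ A ⊓ B = ⊥ ∧ Nat.card A * Nat.card B = Nat.card G := by
  have hpos := hp.out.pos
  set g := b ^ p ^ (s - t) with hg
  obtain ⟨u, hu, hconj⟩ := exists_conj_eq_pow hG a h.normal g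
  obtain ⟨U, hUc, hU⟩ := gs_pow_eq h2 hu t
  obtain ⟨f, hf⟩ := exists_solve (q := p ^ m) v' (pow_pos hpos m)
    (Nat.Coprime.pow_right m hUc)
  have hfc : Nat.Coprime f p := by
    rw [Nat.coprime_comm, hp.out.coprime_iff_not_dvd]
    intro hd
    have h3 : p ∣ f * U + v' := (dvd_pow_self p (by omega)).trans hf
    have h4 : p ∣ v' := (Nat.dvd_add_right (hd.mul_right U)).mp h3
    rw [Nat.coprime_comm, hp.out.coprime_iff_not_dvd] at hv'
    exact hv' h4
  set y := a ^ f * g with hy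
  have hgt : g ^ p ^ t = a ^ v := by
    rw [hg, ← pow_mul, ← pow_add, show s - t + t = s by omega, hv]
  have hyp : y ^ p ^ t = 1 := by
    rw [hy, pow_formula a g hconj, hgt, hU, ← pow_add]
    have : f * (p ^ t * U) + v = p ^ t * (f * U + v') := by
      rw [hvv]; ring
    rw [this]
    obtain ⟨k, hk⟩ := hf
    rw [hk, ← hm, ← mul_assoc, mul_comm (p ^ t), mul_assoc, pow_mul, pow_orderOf_eq_one, one_pow]
  have hmky : ((y : G) : G ⧸ zpowers a) = (b : G ⧸ zpowers a) ^ p ^ (s - t) := by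
    have h1 : ((a ^ f : G) : G ⧸ zpowers a) = 1 := by
      rw [QuotientGroup.eq_one_iff]
      exact Subgroup.pow_mem _ (mem_zpowers a) f
    rw [hy, QuotientGroup.mk_mul, h1, one_mul, hg, QuotientGroup.mk_pow]
  have hordy : orderOf y = p ^ t := by
    have h1 : orderOf y ∣ p ^ t := orderOf_dvd_of_pow_eq_one hyp
    have h3 : p ^ t ∣ orderOf y := by
      have h4 : orderOf ((y : G) : G ⧸ zpowers a) = p ^ t := by
        rw [hmky, orderOf_pow_of_dvd (pow_ne_zero _ hp.out.ne_zero) (by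
          rw [hs]; exact pow_dvd_pow p (by omega)), hs, Nat.pow_div (by omega) hpos]
        congr 1
        omega
      rw [← h4]
      exact orderOf_map_dvd (QuotientGroup.mk' (zpowers a)) y
    exact Nat.dvd_antisymm h1 h3
  have hordav : orderOf (a ^ v) = p ^ (m - t) := by
    rw [orderOf_pow, hm, hvv, Cfsg.Agent.Lib.Metacyclic.Subgroups.gcd_pow_mul' _ _ _ hv',
      min_eq_right htm.le, Nat.pow_div htm.le hpos]
  have hordb : orderOf b = p ^ s * p ^ (m - t) := by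
    have h1 : p ^ s ∣ orderOf b := by
      rw [← hs]
      exact orderOf_map_dvd (QuotientGroup.mk' (zpowers a)) b
    have h3 := orderOf_pow_of_dvd (x := b) (pow_ne_zero s hp.out.ne_zero) h1
    rw [hv, hordav] at h3
    rw [h3, Nat.mul_div_cancel' h1]
  refine ⟨zpowers b, zpowers y, inferInstance, inferInstance, ?_, ?_⟩
  · rw [eq_bot_iff]
    rintro z ⟨hz1, hz2⟩
    obtain ⟨j, rfl⟩ := exists_natPow_of_mem_zpowers hz2
    have h1 : a ^ (f * gs u j) ∈ zpowers b := by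
      have h3 : y ^ j = a ^ (f * gs u j) * g ^ j := by
        rw [hy, pow_formula a g hconj]
      have h4 : a ^ (f * gs u j) = y ^ j * (g ^ j)⁻¹ := by rw [h3]; group
      rw [h4]
      refine Subgroup.mul_mem _ hz1 (inv_mem ?_)
      exact Subgroup.pow_mem _ (Subgroup.pow_mem _ (mem_zpowers b) _) _
    obtain ⟨k, hk⟩ := exists_natPow_of_mem_zpowers h1
    have h3 : ((b : G) : G ⧸ zpowers a) ^ k = 1 := by
      rw [← QuotientGroup.mk_pow, ← hk, QuotientGroup.eq_one_iff]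
      exact Subgroup.pow_mem _ (mem_zpowers a) _
    have h4 := orderOf_dvd_of_pow_eq_one h3
    rw [hs] at h4
    obtain ⟨l, rfl⟩ := h4
    have hk' : a ^ (f * gs u j) = a ^ (v * l) := by rw [hk, pow_mul, hv, ← pow_mul]
    have h5 := pow_eq_pow_iff_modEq.mp hk'
    rw [hm] at h5
    have h6 : f * gs u j ≡ v * l [MOD p ^ t] := h5.of_dvd (pow_dvd_pow p htm.le)
    have h7 : p ^ t ∣ v * l := by rw [hvv, mul_assoc]; exact dvd_mul_right _ _
    have h8 : p ^ t ∣ f * gs u j := (h6.dvd_iff dvd_rfl).mpr h7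
    have h9 : p ^ t ∣ gs u j :=
      (Nat.Coprime.pow_left t hfc.symm).dvd_of_dvd_mul_left h8
    obtain ⟨q, rfl⟩ := (dvd_gs_iff hp.out h2 hu t j).mp h9
    rw [mem_bot, pow_mul, hyp, one_pow]
  · rw [Nat.card_zpowers, Nat.card_zpowers, hordb, hordy, hc, mul_assoc, ← pow_add,
      show m - t + t = m by omega, mul_comm]

theorem exists_split (hG : IsPGroup p G) (h2 : p ≠ 2) {a b : G} (h : Setup a b) :
    ∃ A B : Subgroup G, IsCyclic A ∧ IsCyclic B ∧ A ⊓ B = ⊥ ∧ Nat.card A * Nat.card B = Nat.card G := by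
  have hNn := h.normal
  have hpos := hp.out.pos
  obtain ⟨m, hm⟩ := orderOf_eq_prime_pow hG a
  have hq : IsPGroup p (G ⧸ zpowers a) := hG.to_quotient _
  obtain ⟨s, hs⟩ := orderOf_eq_prime_pow hq ((b : G) : G ⧸ zpowers a)
  have hgen' : zpowers ((b : G) : G ⧸ zpowers a) = ⊤ := by
    rw [eq_top_iff]
    intro q _
    induction q using QuotientGroup.induction_on with | H g => ?_
    obtain ⟨i, j, rfl⟩ := h.gen g
    have h1 : ((a ^ i : G) : G ⧸ zpowers a) = 1 := by
      rw [QuotientGroup.eq_one_iff]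
      exact Subgroup.pow_mem _ (mem_zpowers a) i
    rw [QuotientGroup.mk_mul, h1, one_mul, QuotientGroup.mk_pow]
    exact Subgroup.pow_mem _ (mem_zpowers _) j
  have hc : Nat.card G = p ^ m * p ^ s := by
    have h6 : orderOf ((b : G) : G ⧸ zpowers a) = Nat.card (G ⧸ zpowers a) := by
      rw [← Nat.card_zpowers, hgen']
      exact Nat.card_congr Subgroup.topEquiv.toEquiv
    have h7 : Nat.card (zpowers a) = orderOf a := Nat.card_zpowers a
    have h8 := card_eq_card_quotient_mul_card_subgroup (zpowers a)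
    rw [h8, ← h6, hs, h7, hm, mul_comm]
  obtain ⟨v, hv⟩ : ∃ v : ℕ, b ^ p ^ s = a ^ v := by
    have h1 : b ^ p ^ s ∈ zpowers a := by
      rw [← QuotientGroup.eq_one_iff, QuotientGroup.mk_pow, ← hs]
      exact pow_orderOf_eq_one _
    exact exists_natPow_of_mem_zpowers h1
  obtain ⟨t, ht, hgcd⟩ := (Nat.dvd_prime_pow hp.out).mp (Nat.gcd_dvd_left (p ^ m) v)
  have hdv : p ^ t ∣ v := hgcd ▸ Nat.gcd_dvd_right (p ^ m) v
  by_cases htm : t = m
  · subst htm
    refine split_caseA hm hs hc b rfl ?_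
    obtain ⟨k, rfl⟩ := hdv
    rw [hv, pow_mul, ← hm, pow_orderOf_eq_one, one_pow]
  by_cases hts : s ≤ t
  · obtain ⟨u, hu, hconj⟩ := exists_conj_eq_pow hG a h.normal b
    obtain ⟨U, hUc, hU⟩ := gs_pow_eq h2 hu s
    obtain ⟨v'', hv''⟩ := (pow_dvd_pow p hts).trans hdv
    obtain ⟨f, k, hf⟩ := exists_solve (q := p ^ m) v'' (pow_pos hpos m) (Nat.Coprime.pow_right m hUc)
    refine split_caseA hm hs hc (a ^ f * b) ?_ ?_
    · have h1 : ((a ^ f : G) : G ⧸ zpowers a) = 1 := by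
        rw [QuotientGroup.eq_one_iff]
        exact Subgroup.pow_mem _ (mem_zpowers a) f
      rw [QuotientGroup.mk_mul, h1, one_mul]
    · rw [pow_formula a b hconj, hv, hU, ← pow_add]
      have h3 : f * (p ^ s * U) + v = p ^ s * (f * U + v'') := by
        rw [hv'']; ring
      rw [h3, hf, ← hm, ← mul_assoc, mul_comm (p ^ s), mul_assoc, pow_mul, pow_orderOf_eq_one, one_pow]
  · obtain ⟨v', hv'⟩ := hdv
    have htm' : t < m := lt_of_le_of_ne ht htm
    refine split_caseB hG h2 h hm hs hc hv htm' (by omega) hv' ?_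
    rw [Nat.coprime_comm, hp.out.coprime_iff_not_dvd]
    intro hd
    obtain ⟨w, rfl⟩ := hd
    have h3 : p ^ (t + 1) ∣ Nat.gcd (p ^ m) v :=
      Nat.dvd_gcd (pow_dvd_pow p (by omega)) ⟨w, by rw [hv']; ring⟩
    rw [hgcd] at h3
    have := (Nat.pow_dvd_pow_iff_le_right hp.out.one_lt).mp h3
    omega

end Cfsg.Agent.Lib.Metacyclic.Split
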