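import Cfsg.Agent.Lib.Metacyclic.Class

/-!
# Metacyclic `p`-groups, `p` odd: structure of subgroups
-/

set_option autoImplicit false

namespace Cfsg.Agent.Lib.Metacyclic.Subgroups

open Cfsg.Agent.Lib.Metacyclic.Arith Cfsg.Agent.Lib.Metacyclic.Basic
open Cfsg.Agent.Lib.Metacyclic.Comm Cfsg.Agent.Lib.Metacyclic.Class
open Subgroup
open scoped commutatorElement

variable {G : Type*} [Group G] [Finite G] {p : ℕ} [hp : Fact p.Prime]

/-- Subgroups of a cyclic `p`-subgroup are generated by `p`-power powers. -/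
theorem exists_eq_zpowers_pow (hG : IsPGroup p G) (x : G) (K : Subgroup G) (hK : K ≤ zpowers x) :
    ∃ α : ℕ, K = zpowers (x ^ p ^ α) ∧ Nat.card K * p ^ α = orderOf x := by
  obtain ⟨m, hm⟩ := orderOf_eq_prime_pow hG x
  have hd : Nat.card K ∣ p ^ m := by
    rw [← hm, ← Nat.card_zpowers]
    exact Subgroup.card_dvd_of_le hK
  obtain ⟨t, ht, hc⟩ := (Nat.dvd_prime_pow hp.out).mp hd
  have hz : orderOf (x ^ p ^ (m - t)) = p ^ t := by
    rw [orderOf_pow_of_dvd (pow_ne_zero _ hp.out.ne_zero) (by rw [hm]; exact pow_dvd_pow p (by omega)), hm]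
    rw [Nat.pow_div (by omega) hp.out.pos]
    congr 1
    omega
  refine ⟨m - t, ?_, ?_⟩
  · apply eq_of_le_of_card_ge
    · intro u hu
      obtain ⟨l, rfl⟩ := exists_natPow_of_mem_zpowers (hK hu)
      apply mem_zpowers_of_orderOf_dvd
      rw [hz, ← hc]
      have := Subgroup.orderOf_dvd_natCard K hu
      exact this
    · rw [hc, Nat.card_zpowers, hz]
  · rw [hc, ← pow_add, hm]
    congr 1
    omega

theorem gcd_pow_mul' {p : ℕ} (n γ u : ℕ) (hu : Nat.Coprime u p) :
    Nat.gcd (p ^ n) (p ^ γ * u) = p ^ min n γ := by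
  rcases le_total n γ with h | h
  · rw [min_eq_left h]
    apply Nat.gcd_eq_left
    exact Dvd.dvd.mul_right (pow_dvd_pow p h) u
  · rw [min_eq_right h]
    obtain ⟨k, rfl⟩ := Nat.exists_eq_add_of_le h
    rw [pow_add, Nat.gcd_mul_left]
    have : Nat.gcd (p ^ k) u = 1 := (Nat.Coprime.pow_right k hu).symm
    rw [this, mul_one]

/-- Data attached to a subgroup `L`. -/
theorem exists_subgroup_data (hG : IsPGroup p G) (h2 : p ≠ 2) {a b : G} (h : Setup a b)
    (L : Subgroup G) :
    ∃ (α β u : ℕ) (a₁ y : L), Setup a₁ y ∧ Nat.card L * p ^ (α + β) = Nat.card G ∧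
      Nat.Coprime u p ∧ ⁅(y : G), (a₁ : G)⁆ = ⁅b, a⁆ ^ (p ^ (α + β) * u) := by
  have hNn := h.normal
  set N := zpowers a with hN
  obtain ⟨α, hα, hα'⟩ := exists_eq_zpowers_pow hG a (L ⊓ N) inf_le_right
  have hq : IsPGroup p (G ⧸ N) := hG.to_quotient N
  have hgen : ∀ q : G ⧸ N, q ∈ zpowers (b : G ⧸ N) := by
    intro q
    induction q using QuotientGroup.induction_on with | H g => ?_
    obtain ⟨i, j, rfl⟩ := h.gen g
    have h1 : ((a ^ i : G) : G ⧸ N) = 1 := by
      rw [QuotientGroup.eq_one_iff]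
      exact Subgroup.pow_mem _ (mem_zpowers a) i
    rw [QuotientGroup.mk_mul, h1, one_mul, QuotientGroup.mk_pow]
    exact Subgroup.pow_mem _ (mem_zpowers _) j
  have hgen' : zpowers (b : G ⧸ N) = ⊤ := by
    rw [eq_top_iff]
    intro q _
    exact hgen q
  obtain ⟨β, hβ, hβ'⟩ := exists_eq_zpowers_pow hq (b : G ⧸ N) (L.map (QuotientGroup.mk' N))
    (by rw [hgen']; exact le_top)
  have hy1 : (b : G ⧸ N) ^ p ^ β ∈ L.map (QuotientGroup.mk' N) := by
    rw [hβ]; exact mem_zpowers _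
  obtain ⟨y, hyL, hy⟩ := hy1
  have hy' : (y : G ⧸ N) = (b : G ⧸ N) ^ p ^ β := hy
  have ha1 : a ^ p ^ α ∈ L ⊓ N := by
    rw [hα]; exact mem_zpowers _
  have hLN : ∀ z, z ∈ L → z ∈ N → ∃ i : ℕ, z = (a ^ p ^ α) ^ i := by
    intro z hz hz'
    have : z ∈ zpowers (a ^ p ^ α) := by
      rw [← hα]; exact ⟨hz, hz'⟩
    exact exists_natPow_of_mem_zpowers this
  -- the generators in `L`
  set a₁ : L := ⟨a ^ p ^ α, ha1.1⟩ with ha₁
  set y₁ : L := ⟨y, hyL⟩ with hy₁
  have hsetup : Setup a₁ y₁ := by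
    refine ⟨?_, ?_⟩
    · constructor
      intro z hz x
      obtain ⟨i, rfl⟩ := exists_natPow_of_mem_zpowers hz
      have h1 : (x : G) * (a ^ p ^ α) ^ i * (x : G)⁻¹ ∈ L := by
        have : (a ^ p ^ α) ^ i ∈ L := Subgroup.pow_mem _ ha1.1 i
        exact mul_mem (mul_mem x.2 this) (inv_mem x.2)
      have h3 : (x : G) * (a ^ p ^ α) ^ i * (x : G)⁻¹ ∈ N :=
        hNn.conj_mem _ (Subgroup.pow_mem _ ha1.2 i) _
      obtain ⟨k, hk⟩ := hLN _ h1 h3
      have h4 : x * a₁ ^ i * x⁻¹ = a₁ ^ k := by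
        apply Subtype.ext
        simpa [ha₁] using hk
      rw [h4]
      exact Subgroup.pow_mem _ (mem_zpowers _) k
    · intro g
      have h1 : ((g : G) : G ⧸ N) ∈ zpowers ((b : G ⧸ N) ^ p ^ β) := by
        rw [← hβ]
        exact mem_map_of_mem _ g.2
      obtain ⟨j, hj⟩ := exists_natPow_of_mem_zpowers h1
      have h3 : (g : G) * (y ^ j)⁻¹ ∈ N := by
        rw [← QuotientGroup.eq_one_iff, QuotientGroup.mk_mul, QuotientGroup.mk_inv, hj,
          QuotientGroup.mk_pow, hy']
        simp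
      have h4 : (g : G) * (y ^ j)⁻¹ ∈ L :=
        mul_mem g.2 (inv_mem (Subgroup.pow_mem _ hyL j))
      obtain ⟨i, hi⟩ := hLN _ h4 h3
      refine ⟨i, j, ?_⟩
      apply Subtype.ext
      have h5 : (g : G) = (a ^ p ^ α) ^ i * y ^ j := by
        rw [← hi]; simp
      simpa [ha₁, hy₁] using h5
  -- the cardinality
  have hcard : Nat.card L * p ^ (α + β) = Nat.card G := by
    have h1 : Nat.card (L.map (QuotientGroup.mk' N)) = N.relIndex L :=
      Cfsg.Agent.Lib.PGroups.MaxAbelian.card_map_mk_eq_relIndex N L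
    have h3 : (N ⊓ L).relIndex L = N.relIndex L := inf_relIndex_right N L
    have h4 := Cfsg.Agent.Lib.PGroups.MaxAbelian.relIndex_mul_card (inf_le_right : N ⊓ L ≤ L)
    have h5 : N ⊓ L = L ⊓ N := inf_comm _ _
    have h6 : orderOf (b : G ⧸ N) = Nat.card (G ⧸ N) := by
      rw [← Nat.card_zpowers, hgen']
      exact Nat.card_congr Subgroup.topEquiv.toEquiv
    have h7 : Nat.card N = orderOf a := Nat.card_zpowers a
    have h8 := card_eq_card_quotient_mul_card_subgroup N
    rw [h8, ← h6, ← hβ', h7, ← hα', ← h4, h3, ← h1, h5, pow_add]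
    ring
  -- the commutator
  obtain ⟨f, hf⟩ : ∃ f : ℕ, y = a ^ f * b ^ p ^ β := by
    have h3 : y * (b ^ p ^ β)⁻¹ ∈ N := by
      rw [← QuotientGroup.eq_one_iff, QuotientGroup.mk_mul, QuotientGroup.mk_inv,
        QuotientGroup.mk_pow, hy']
      simp
    obtain ⟨f, hf⟩ := exists_natPow_of_mem_zpowers h3
    exact ⟨f, by rw [← hf]; simp⟩
  obtain ⟨W, hW, hconj⟩ := exists_conj_eq_pow_commutator hG h (a ^ f)
  obtain ⟨w, hw, hj⟩ := comm_pow_left hG h b a
  obtain ⟨u₁, hu₁⟩ : p ^ β ∣ gs w (p ^ β) := (dvd_gs_iff hp.out h2 hw β _).mpr dvd_rfl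
  have hu₁c : Nat.Coprime u₁ p := by
    rw [Nat.coprime_comm, hp.out.coprime_iff_not_dvd]
    intro hd
    obtain ⟨v, rfl⟩ := hd
    have h3 : p ^ (β + 1) ∣ gs w (p ^ β) := ⟨v, by rw [hu₁]; ring⟩
    have h4 := (dvd_gs_iff hp.out h2 hw (β + 1) _).mp h3
    have h5 := Nat.pow_dvd_pow_iff_le_right hp.out.one_lt |>.mp h4
    omega
  refine ⟨α, β, u₁ * W, a₁, y₁, hsetup, hcard, Nat.Coprime.mul_left hu₁c (coprime_of_modEq_one hW), ?_⟩
  have h3 : ⁅y, a⁆ = a ^ f * ⁅b ^ p ^ β, a⁆ * (a ^ f)⁻¹ := by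
    rw [hf]
    have c1 : Commute (a ^ f) a := (Commute.refl a).pow_left f
    simp only [commutatorElement_def]
    calc a ^ f * b ^ p ^ β * a * (a ^ f * b ^ p ^ β)⁻¹ * a⁻¹
        = a ^ f * (b ^ p ^ β * a * (b ^ p ^ β)⁻¹ * a⁻¹) * (a * (a ^ f)⁻¹ * a⁻¹) := by group
      _ = a ^ f * (b ^ p ^ β * a * (b ^ p ^ β)⁻¹ * a⁻¹) * (a ^ f)⁻¹ := by
          have : a * (a ^ f)⁻¹ * a⁻¹ = (a ^ f)⁻¹ := by
            rw [mul_inv_eq_iff_eq_mul, ← c1.inv_left.eq]
          rw [this]
  show ⁅y, a ^ p ^ α⁆ = _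
  rw [comm_pow_right h.normal, h3, hconj _ (comm_mem_commutator _ _), hj, hu₁, ← pow_mul, ← pow_mul,
    pow_add]
  congr 1
  ring

theorem exists_gamma (hG : IsPGroup p G) (h2 : p ≠ 2) {a b : G} (h : Setup a b) {n : ℕ}
    (hn : Nat.card (commutator G) = p ^ n) (L : Subgroup G) :
    ∃ γ : ℕ, Nat.card L * p ^ γ = Nat.card G ∧
      Nat.card (commutator L) * p ^ min n γ = p ^ n ∧ ∃ a₁ y : L, Setup a₁ y := by
  obtain ⟨α, β, u, a₁, y, hs, hc, hu, hcomm⟩ := exists_subgroup_data hG h2 h L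
  refine ⟨α + β, hc, ?_, a₁, y, hs⟩
  rw [card_commutator_eq hs]
  have h1 : orderOf ⁅y, a₁⁆ = orderOf ⁅(y : G), (a₁ : G)⁆ := by
    rw [← Subgroup.orderOf_coe]
    rfl
  rw [h1, hcomm, orderOf_pow, ← card_commutator_eq h, hn, gcd_pow_mul' _ _ _ hu]
  exact Nat.div_mul_cancel (pow_dvd_pow p (min_le_left _ _))

theorem isMulCommutative_iff_card_commutator {H : Type*} [Group H] :
    IsMulCommutative H ↔ Nat.card (commutator H) = 1 := by
  rw [← _root_.commutator_eq_bot_iff, Subgroup.card_eq_one]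

theorem isMulCommutative_iff_card_le (hG : IsPGroup p G) (h2 : p ≠ 2) {a b : G} (h : Setup a b)
    (L : Subgroup G) : IsMulCommutative L ↔ Nat.card L ≤ (commutator G).index := by
  obtain ⟨n, hn⟩ : ∃ n, Nat.card (commutator G) = p ^ n := (hG.to_subgroup _).exists_card_eq
  obtain ⟨γ, h1, h3, -⟩ := exists_gamma hG h2 h hn L
  have hI := card_mul_index (commutator G)
  rw [hn] at hI
  have hp1 := hp.out.one_lt
  have hpos : 0 < p := hp.out.pos
  rw [isMulCommutative_iff_card_commutator]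
  rw [← hI, mul_comm (p ^ n)] at h1
  constructor
  · intro hc
    rw [hc, one_mul] at h3
    have h4 : min n γ = n := (Nat.pow_right_injective hp1) h3
    have h5 : n ≤ γ := by omega
    obtain ⟨k, rfl⟩ := Nat.exists_eq_add_of_le h5
    have h6 : Nat.card L * p ^ k = (commutator G).index := by
      apply Nat.eq_of_mul_eq_mul_right (pow_pos hpos n)
      rw [← h1, pow_add]
      ring
    calc Nat.card L = Nat.card L * 1 := (mul_one _).symm
      _ ≤ Nat.card L * p ^ k := Nat.mul_le_mul_left _ (pow_pos hpos k)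
      _ = _ := h6
  · intro hle
    have h4 : n ≤ γ := by
      by_contra hlt
      rw [not_le] at hlt
      obtain ⟨k, rfl⟩ := Nat.exists_eq_add_of_lt hlt
      have h5 : Nat.card L = (commutator G).index * p ^ (k + 1) := by
        apply Nat.eq_of_mul_eq_mul_right (pow_pos hpos γ)
        rw [h1, mul_assoc, ← pow_add]
        congr 2
        omega
      have h6 : 0 < (commutator G).index := Nat.pos_of_ne_zero (index_ne_zero_of_finite)
      have h7 : 1 < p ^ (k + 1) := Nat.one_lt_pow (by omega) hp1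
      nlinarith
    rw [min_eq_left h4] at h3
    exact Nat.eq_of_mul_eq_mul_right (pow_pos hpos n) (by rw [h3, one_mul])

theorem maximal_abelian_iff (hG : IsPGroup p G) (h2 : p ≠ 2) {a b : G} (h : Setup a b)
    (L : Subgroup G) : Maximal (fun K : Subgroup G => IsMulCommutative K) L ↔
      Nat.card L = (commutator G).index := by
  have key := isMulCommutative_iff_card_le hG h2 h
  constructor
  · intro hm
    have hle := (key L).mp hm.1
    by_contra hne
    have hlt : Nat.card L < (commutator G).index := lt_of_le_of_ne hle hne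
    obtain ⟨g, hg⟩ := hG.exists_card_eq
    obtain ⟨l, hl⟩ := (hG.to_subgroup L).exists_card_eq
    have hdi : (commutator G).index ∣ p ^ g := by
      rw [← hg]; exact index_dvd_card _
    obtain ⟨i, hi, hci⟩ := (Nat.dvd_prime_pow hp.out).mp hdi
    have hli : l < i := by
      rw [hl, hci] at hlt
      exact (Nat.pow_lt_pow_iff_right hp.out.one_lt).mp hlt
    have hdvd : p ^ (l + 1) ∣ Nat.card G := by
      rw [hg]; exact pow_dvd_pow p (by omega)
    obtain ⟨K, hK, hLK⟩ := Sylow.exists_subgroup_card_pow_succ hdvd hl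
    have hKc : IsMulCommutative K := by
      rw [key, hK, hci]
      exact Nat.pow_le_pow_right hp.out.pos (by omega)
    have hKL : K ≤ L := hm.2 hKc hLK
    have h3 := Subgroup.card_le_of_le hKL
    rw [hK, hl] at h3
    have := (Nat.pow_le_pow_iff_right hp.out.one_lt).mp h3
    omega
  · intro hc
    refine ⟨(key L).mpr hc.le, ?_⟩
    intro K hK hLK
    have h3 := (key K).mp hK
    rw [← hc] at h3
    exact (eq_of_le_of_card_ge hLK h3).symm.le

theorem frattini_eq_closure (hG : IsPGroup p G) (h2 : p ≠ 2) {a b : G} (h : Setup a b) {n : ℕ}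
    (hn : Nat.card (commutator G) = p ^ n) (hn1 : 1 ≤ n) :
    frattini G = closure {x : G | ∃ y : G, y ^ p ^ 1 = x} := by
  apply le_antisymm
  · have := closure_powers_normal (G := G) (p ^ 1)
    apply Cfsg.Agent.Lib.PGroups.Basic.frattini_le_of_normal (p := p)
    · rw [commutator_eq_zpowers h, zpowers_le, closure_powers_eq hG h2 h hn hn1]
      intro x
      obtain ⟨w, hw, hconj⟩ := exists_conj_eq_pow_commutator hG h x
      have hc := hconj _ (comm_mem_commutator b a)
      have hwpos : 1 ≤ w := Nat.pos_of_ne_zero (fun h0 => by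
        subst h0
        have := (coprime_of_modEq_one hw)
        rw [Nat.coprime_zero_left] at this
        exact hp.out.one_lt.ne' this)
      obtain ⟨k, hk⟩ := (Nat.modEq_iff_dvd' hwpos).mp hw.symm
      have hw' : w = 1 + p * k := by omega
      have h3 : ⁅x, ⁅b, a⁆⁆ = (⁅b, a⁆ ^ p ^ 1) ^ k := by
        rw [commutatorElement_def x, hc, hw', pow_add, pow_one, pow_one, pow_mul]
        have : Commute ⁅b, a⁆ ((⁅b, a⁆ ^ p) ^ k) :=
          (((Commute.refl _).pow_right p).pow_right k)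
        rw [this.eq]
        group
      rw [h3]
      exact Subgroup.pow_mem _ (mem_zpowers _) _
    · intro x
      apply Subgroup.subset_closure
      exact ⟨x, by rw [pow_one]⟩
  · rw [closure_le]
    rintro _ ⟨y, rfl⟩
    rw [pow_one]
    exact Cfsg.Agent.Lib.PGroups.Basic.pow_mem_frattini hG y

theorem not_mem_frattini_iff (hG : IsPGroup p G) (h2 : p ≠ 2) {a b : G} (h : Setup a b)
    (hna : ¬ IsMulCommutative G) (g : G) :
    g ∉ frattini G ↔ IsMulCommutative (centralizer ({g} : Set G)) := by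
  obtain ⟨n, hn⟩ : ∃ n, Nat.card (commutator G) = p ^ n := (hG.to_subgroup _).exists_card_eq
  have hn1 : 1 ≤ n := by
    by_contra h0
    have : n = 0 := by omega
    subst this
    rw [pow_zero, ← isMulCommutative_iff_card_commutator] at hn
    exact hna hn
  have hp1 := hp.out.one_lt
  have hpos := hp.out.pos
  rw [frattini_eq_closure hG h2 h hn hn1, closure_powers_eq hG h2 h hn hn1,
    comm_mem_powU_iff hG h2 h hn hn1, isMulCommutative_iff_card_le hG h2 h]
  obtain ⟨d, hd, -, hidx⟩ := index_centralizer_spec hG h2 h g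
  have hdvd : orderOf d ∣ p ^ n := by
    rw [← hn, ← Nat.card_zpowers]
    apply Subgroup.card_dvd_of_le
    rwa [zpowers_le]
  obtain ⟨r, hr, hcr⟩ := (Nat.dvd_prime_pow hp.out).mp hdvd
  have hc1 := card_mul_index (centralizer ({g} : Set G))
  have hc2 := card_mul_index (commutator G)
  rw [hidx, hcr] at hc1
  rw [hn] at hc2
  rw [hidx, hcr, Nat.pow_le_pow_iff_right hp1]
  have hipos : 0 < (commutator G).index := Nat.pos_of_ne_zero index_ne_zero_of_finite
  constructor
  · intro hlt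
    have hrn : r = n := by omega
    subst hrn
    have : Nat.card (centralizer ({g} : Set G)) = (commutator G).index := by
      apply Nat.eq_of_mul_eq_mul_right (pow_pos hpos r)
      rw [hc1, ← hc2, mul_comm]
    exact this.le
  · intro hle hcon
    have hrlt : r < n := by omega
    obtain ⟨k, hk⟩ := Nat.exists_eq_add_of_lt hrlt
    have h5 : Nat.card (centralizer ({g} : Set G)) = (commutator G).index * p ^ (k + 1) := by
      apply Nat.eq_of_mul_eq_mul_right (pow_pos hpos r)
      rw [hc1, ← hc2, mul_assoc, ← pow_add, hk, mul_comm]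
      congr 2
      omega
    have h7 : 1 < p ^ (k + 1) := Nat.one_lt_pow (by omega) hp1
    nlinarith

end Cfsg.Agent.Lib.Metacyclic.Subgroups
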